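import Groth.Agent.Lib.CI2.Ops
import Groth.Agent.Lib.CanElt.Koszul

/-! # Collapsing the regular tail of a Koszul complex -/

set_option autoImplicit false
set_option linter.style.haveILetI false
universe u

open Groth.Agent.CanElt (KObj kd k0)

namespace Groth.Agent.KoszulTor28

variable {A : Type u} [CommRing A] (M : Type u) [AddCommGroup M] [Module A M]

/-- `M/(l)M`. -/
abbrev Quo (l : List A) : Type u := M ⧸ (Ideal.ofList l • (⊤ : Submodule A M))

/-- The map to the Koszul complex of the quotient by the tail. -/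
noncomputable def coll (l₁ : List A) : ∀ (l : List A) (n : ℕ), KObj A M (l ++ l₁) n →ₗ[A] KObj A (Quo M l₁) l n
  | [], 0 => Submodule.mkQ _ ∘ₗ (k0 A M l₁).toLinearMap
  | [], _ + 1 => 0
  | _ :: l, 0 => coll l₁ l 0
  | _ :: l, n + 1 => (coll l₁ l (n + 1)).prodMap (coll l₁ l n)

theorem coll_kd (l₁ : List A) : ∀ (l : List A) (n : ℕ) (z : KObj A M (l ++ l₁) (n + 1)),
    coll M l₁ l n (kd A M (l ++ l₁) n z) = kd A (Quo M l₁) l n (coll M l₁ l (n + 1) z)
  | [], 0, z => by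
    change Submodule.Quotient.mk (k0 A M l₁ (kd A M l₁ 0 z)) = (0 : Quo M l₁)
    rw [Submodule.Quotient.mk_eq_zero]
    exact (CanElt.mem_range_kd_zero A M l₁ _).1 ⟨z, rfl⟩
  | [], n + 1, z => rfl
  | f :: l, 0, (a, b) => by
    change coll M l₁ l 0 (kd A M (l ++ l₁) 0 a + f • b) =
      kd A (Quo M l₁) l 0 (coll M l₁ l 1 a) + f • coll M l₁ l 0 b
    rw [map_add, map_smul, coll_kd l₁ l 0 a]
  | f :: l, n + 1, (a, b) => by
    change (coll M l₁ l (n + 1) (kd A M (l ++ l₁) (n + 1) a + f • b), coll M l₁ l n (-kd A M (l ++ l₁) n b)) =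
      (kd A (Quo M l₁) l (n + 1) (coll M l₁ l (n + 2) a) + f • coll M l₁ l (n + 1) b,
        -kd A (Quo M l₁) l n (coll M l₁ l (n + 1) b))
    rw [map_add, map_smul, map_neg, coll_kd l₁ l (n + 1) a, coll_kd l₁ l n b]

theorem coll_surjective (l₁ : List A) : ∀ (l : List A) (n : ℕ), Function.Surjective (coll M l₁ l n)
  | [], 0 => (Submodule.mkQ_surjective _).comp (k0 A M l₁).surjective
  | [], _ + 1 => fun y => ⟨0, Subsingleton.elim (α := PUnit.{u + 1}) _ _⟩
  | _ :: l, 0 => coll_surjective l₁ l 0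
  | _ :: l, n + 1 => (coll_surjective l₁ l (n + 1)).prodMap (coll_surjective l₁ l n)

/-- The kernel complex is exact. -/
theorem coll_kernel_exact {l₁ : List A} (h : CI2.Ex A M l₁) : ∀ (l : List A),
    (∀ z : KObj A M (l ++ l₁) 0, coll M l₁ l 0 z = 0 →
      ∃ w, coll M l₁ l 1 w = 0 ∧ kd A M (l ++ l₁) 0 w = z) ∧
    ∀ (n : ℕ) (z : KObj A M (l ++ l₁) (n + 1)), coll M l₁ l (n + 1) z = 0 → kd A M (l ++ l₁) n z = 0 →
      ∃ w, coll M l₁ l (n + 2) w = 0 ∧ kd A M (l ++ l₁) (n + 1) w = z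
  | [] => by
    refine ⟨fun z hz => ?_, fun n z _ hd => ?_⟩
    · have hz' : k0 A M l₁ z ∈ Ideal.ofList l₁ • (⊤ : Submodule A M) := (Submodule.Quotient.mk_eq_zero _).1 hz
      obtain ⟨w, hw⟩ := (CanElt.mem_range_kd_zero A M l₁ z).2 hz'
      exact ⟨w, rfl, hw⟩
    · obtain ⟨w, hw⟩ := h n z hd
      exact ⟨w, rfl, hw⟩
  | f :: l => by
    obtain ⟨i0, i1⟩ := coll_kernel_exact h l
    refine ⟨fun z hz => ?_, fun n => ?_⟩
    · obtain ⟨w, hw, rfl⟩ := i0 z hz
      refine ⟨(w, 0), ?_, ?_⟩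
      · change (coll M l₁ l 1 w, coll M l₁ l 0 0) = (0, 0)
        rw [hw, map_zero]
      · change kd A M (l ++ l₁) 0 w + f • (0 : KObj A M (l ++ l₁) 0) = _
        rw [smul_zero, add_zero]
    · rintro ⟨a, b⟩ hz hd
      have ha : coll M l₁ l (n + 1) a = 0 := congrArg Prod.fst hz
      have hb : coll M l₁ l n b = 0 := congrArg Prod.snd hz
      obtain ⟨b', hb', rfl⟩ : ∃ b', coll M l₁ l (n + 1) b' = 0 ∧ kd A M (l ++ l₁) n b' = b := by
        cases n with
        | zero => exact i0 b hb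
        | succ m =>
          have hd2 : -kd A M (l ++ l₁) m b = 0 := congrArg Prod.snd hd
          exact i1 m b hb (neg_eq_zero.1 hd2)
      have hd' : kd A M (l ++ l₁) n a + f • kd A M (l ++ l₁) n b' = 0 := by
        cases n with
        | zero => exact hd
        | succ m => exact congrArg Prod.fst hd
      obtain ⟨a', ha', hda⟩ := i1 n (a + f • b') (by rw [map_add, map_smul, ha, hb', smul_zero, add_zero])
        (by rw [map_add, map_smul, hd'])
      refine ⟨(a', -b'), ?_, ?_⟩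
      · change (coll M l₁ l (n + 2) a', coll M l₁ l (n + 1) (-b')) = (0, 0)
        rw [ha', map_neg, hb', neg_zero]
      · change (kd A M (l ++ l₁) (n + 1) a' + f • (-b'), -kd A M (l ++ l₁) n (-b')) = _
        rw [hda, map_neg, neg_neg, smul_neg, add_neg_cancel_right]

theorem ex_quo_of_ex_append {l₁ l : List A} (h : CI2.Ex A M l₁) (h' : CI2.Ex A M (l ++ l₁)) :
    CI2.Ex A (Quo M l₁) l := by
  intro n z hz
  obtain ⟨x, rfl⟩ := coll_surjective M l₁ l (n + 1) z
  rw [← coll_kd] at hz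
  obtain ⟨i0, i1⟩ := coll_kernel_exact M h l
  obtain ⟨w, hw0, hw⟩ : ∃ w, coll M l₁ l (n + 1) w = 0 ∧ kd A M (l ++ l₁) n w = kd A M (l ++ l₁) n x := by
    cases n with
    | zero => exact i0 _ hz
    | succ m => exact i1 m _ hz (CanElt.kd_kd A M _ _ _)
  obtain ⟨v, hv⟩ := h' n (x - w) (by rw [map_sub, hw, sub_self])
  exact ⟨coll M l₁ l (n + 2) v, by rw [← coll_kd, hv, map_sub, hw0, sub_zero]⟩

/-- Homology in positive degrees. -/
abbrev Hom1 (A : Type u) [CommRing A] (M : Type u) [AddCommGroup M] [Module A M] (l : List A) (n : ℕ) : Type u :=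
  LinearMap.ker (kd A M l n) ⧸ Submodule.comap (LinearMap.ker (kd A M l n)).subtype (LinearMap.range (kd A M l (n + 1)))

theorem nonempty_hom1_coll {l₁ l : List A} (h : CI2.Ex A M l₁) (n : ℕ) :
    Nonempty (Hom1 A M (l ++ l₁) n ≃ₗ[A] Hom1 A (Quo M l₁) l n) := by
  let q : LinearMap.ker (kd A M (l ++ l₁) n) →ₗ[A] LinearMap.ker (kd A (Quo M l₁) l n) :=
    (coll M l₁ l (n + 1)).restrict fun x hx => by
      rw [LinearMap.mem_ker] at hx ⊢
      rw [← coll_kd, hx, map_zero]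
  obtain ⟨i0, i1⟩ := coll_kernel_exact M h l
  let F : LinearMap.ker (kd A M (l ++ l₁) n) →ₗ[A] Hom1 A (Quo M l₁) l n := Submodule.mkQ _ ∘ₗ q
  have hF : Function.Surjective F := by
    intro y
    obtain ⟨⟨y, hy⟩, rfl⟩ := Submodule.mkQ_surjective _ y
    obtain ⟨x, rfl⟩ := coll_surjective M l₁ l (n + 1) y
    rw [LinearMap.mem_ker, ← coll_kd] at hy
    obtain ⟨w, hw0, hw⟩ : ∃ w, coll M l₁ l (n + 1) w = 0 ∧ kd A M (l ++ l₁) n w = kd A M (l ++ l₁) n x := by
      cases n with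
      | zero => exact i0 _ hy
      | succ m => exact i1 m _ hy (CanElt.kd_kd A M _ _ _)
    refine ⟨⟨x - w, by rw [LinearMap.mem_ker, map_sub, hw, sub_self]⟩, congrArg (Submodule.mkQ _) (Subtype.ext ?_)⟩
    show coll M l₁ l (n + 1) (x - w) = coll M l₁ l (n + 1) x
    rw [map_sub, hw0, sub_zero]
  have hker : LinearMap.ker F =
      Submodule.comap (LinearMap.ker (kd A M (l ++ l₁) n)).subtype (LinearMap.range (kd A M (l ++ l₁) (n + 1))) := by
    ext ⟨x, hx⟩
    rw [LinearMap.mem_ker] at hx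
    refine (Submodule.Quotient.mk_eq_zero _).trans ⟨?_, ?_⟩
    · rintro ⟨y, hy⟩
      obtain ⟨v, rfl⟩ := coll_surjective M l₁ l (n + 2) y
      have hy' : kd A (Quo M l₁) l (n + 1) (coll M l₁ l (n + 2) v) = coll M l₁ l (n + 1) x := hy
      obtain ⟨w, -, hw⟩ := i1 n (x - kd A M (l ++ l₁) (n + 1) v)
        (by rw [map_sub, coll_kd, hy', sub_self]) (by rw [map_sub, hx, CanElt.kd_kd, sub_zero])
      exact ⟨w + v, by rw [map_add, hw, sub_add_cancel]; rfl⟩
    · rintro ⟨v, hv⟩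
      have hv' : kd A M (l ++ l₁) (n + 1) v = x := hv
      refine ⟨coll M l₁ l (n + 2) v, ?_⟩
      show kd A (Quo M l₁) l (n + 1) (coll M l₁ l (n + 2) v) = coll M l₁ l (n + 1) x
      rw [← coll_kd, hv']
  exact ⟨(Submodule.quotEquivOfEq _ _ hker.symm).trans (F.quotKerEquivOfSurjective hF)⟩

theorem kd_eq_zero {l : List A} (h : ∀ a ∈ Ideal.ofList l, ∀ m : M, a • m = 0) (n : ℕ) : kd A M l n = 0 := by
  have hz : ∀ (l' : List A) (n : ℕ), ∀ a ∈ Ideal.ofList l, ∀ x : KObj A M l' n, a • x = 0 := by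
    intro l'
    induction l' with
    | nil =>
      intro n a ha x
      cases n with
      | zero => exact h a ha x
      | succ m => exact Subsingleton.elim (α := PUnit.{u + 1}) _ _
    | cons f l' ih =>
      intro n a ha x
      cases n with
      | zero => exact ih 0 a ha x
      | succ m => exact Prod.ext (ih (m + 1) a ha x.1) (ih m a ha x.2)
  rw [← LinearMap.range_eq_bot]
  refine le_bot_iff.1 ((CanElt.range_kd_le A M l n).trans (Submodule.smul_le.2 fun a ha x _ => ?_))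
  rw [hz l n a ha x]
  exact zero_mem _

theorem nonempty_KObj_equiv_fun : ∀ (l : List A) (n : ℕ),
    Nonempty (KObj A M l n ≃ₗ[A] (Fin (l.length.choose n) → M))
  | [], 0 => ⟨(LinearEquiv.funUnique (Fin 1) A M).symm⟩
  | [], n + 1 =>
    haveI : Subsingleton (KObj A M ([] : List A) (n + 1)) := inferInstanceAs (Subsingleton PUnit)
    haveI : IsEmpty (Fin (([] : List A).length.choose (n + 1))) := inferInstanceAs (IsEmpty (Fin 0))
    ⟨LinearEquiv.ofSubsingleton _ _⟩
  | f :: l, 0 => by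
    obtain ⟨e⟩ := nonempty_KObj_equiv_fun l 0
    exact ⟨e.trans (LinearEquiv.funCongrLeft A M (finCongr (by simp)))⟩
  | f :: l, n + 1 => by
    obtain ⟨e⟩ := nonempty_KObj_equiv_fun l (n + 1)
    obtain ⟨e'⟩ := nonempty_KObj_equiv_fun l n
    exact ⟨((e.prodCongr e').trans (LinearEquiv.sumArrowLequivProdArrow _ _ A M).symm).trans
      (LinearEquiv.funCongrLeft A M ((finCongr (by simp [Nat.choose_succ_succ, add_comm])).trans finSumFinEquiv.symm))⟩

theorem nonempty_hom1_of_smul_zero {l : List A} (h : ∀ a ∈ Ideal.ofList l, ∀ m : M, a • m = 0) (n : ℕ) :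
    Nonempty (Hom1 A M l n ≃ₗ[A] (Fin (l.length.choose (n + 1)) → M)) := by
  obtain ⟨e⟩ := nonempty_KObj_equiv_fun M l (n + 1)
  have hk : LinearMap.ker (kd A M l n) = ⊤ := by rw [kd_eq_zero M h, LinearMap.ker_zero]
  have hr : Submodule.comap (LinearMap.ker (kd A M l n)).subtype (LinearMap.range (kd A M l (n + 1))) = ⊥ := by
    rw [kd_eq_zero M h (n + 1), LinearMap.range_zero, Submodule.comap_bot, Submodule.ker_subtype]
  exact ⟨(Submodule.quotEquivOfEqBot _ hr).trans ((LinearEquiv.ofTop _ hk).trans e)⟩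

end Groth.Agent.KoszulTor28
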