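import Groth.Agent.Lib.KoszulTor28.Collapse
import Groth.Agent.Lib.KEuler6.Tor

/-! # `Tor` against a Koszul-regular quotient as Koszul homology; exterior powers over a quotient ring -/

set_option autoImplicit false
set_option linter.style.haveILetI false
set_option backward.isDefEq.respectTransparency.types false
universe u

open CategoryTheory CategoryTheory.Limits MonoidalCategory TensorProduct
open Groth.Agent.CanElt (KObj kd k0)
open Groth.Agent.KEuler6 (kC kC_d tk tk_kd)

namespace Groth.Agent.KoszulTor28

variable {A : Type u} [CommRing A]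

/-- The Koszul complex of a Koszul regular sequence as a projective resolution of the quotient. -/
noncomputable def kres (l : List A) (h : CI2.Ex A A l) :
    ProjectiveResolution (ModuleCat.of A (A ⧸ Ideal.ofList l)) :=
  let π : KObj A A l 0 →ₗ[A] A ⧸ Ideal.ofList l := (Ideal.ofList l).mkQ ∘ₗ (k0 A A l).toLinearMap
  have hπd : Function.Exact (kd A A l 0) π := fun v => by
    show Submodule.Quotient.mk (k0 A A l v) = (0 : A ⧸ Ideal.ofList l) ↔ v ∈ LinearMap.range (kd A A l 0)
    rw [Submodule.Quotient.mk_eq_zero, CanElt.mem_range_kd_zero, smul_eq_mul, Ideal.mul_top]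
  { complex := kC A l
    projective := fun i => (IsProjective.iff_projective (R := A) (KObj A A l i)).1 (CanElt.projective_KObj A A l i)
    π := ((kC A l).toSingle₀Equiv _).symm ⟨ModuleCat.ofHom π, by
      rw [kC_d]; exact ModuleCat.hom_ext hπd.linearMap_comp_eq_zero⟩
    quasiIso := by
      rw [quasiIso_iff]
      intro i
      cases i with
      | zero =>
        rw [quasiIsoAt_iff_isIso_homologyMap, ConcreteCategory.isIso_iff_bijective]
        refine DMod.homologyMap_bijective_of _ (ChainComplex.prev ℕ 0) ChainComplex.next_nat_zero ?_ ?_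
        · intro x _
          obtain ⟨r, hr⟩ := (Ideal.ofList l).mkQ_surjective x
          refine ⟨(k0 A A l).symm r, 0, by simp, ?_⟩
          rw [ChainComplex.toSingle₀Equiv_symm_apply_f_zero, map_zero, add_zero]
          refine Eq.trans ?_ hr
          show (Ideal.ofList l).mkQ (k0 A A l ((k0 A A l).symm r)) = _
          rw [LinearEquiv.apply_symm_apply]
        · intro w y _ hy
          rw [ChainComplex.toSingle₀Equiv_symm_apply_f_zero] at hy
          have hw : π w = 0 := by
            refine hy.symm.trans ?_
            simp only [HomologicalComplex.single_obj_d]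
            rfl
          obtain ⟨v, hv⟩ := (hπd w).1 hw
          exact ⟨v, by rw [kC_d]; exact hv⟩
      | succ i =>
        rw [quasiIsoAt_iff_exactAt' _ _ (ChainComplex.exactAt_succ_single_obj ..), DMod.exactAt_iff_subsingleton,
          DMod.subsingleton_homology_iff (i := i + 2) (k := i) _ (ChainComplex.prev ℕ (i + 1)) (ChainComplex.next_nat_succ i)]
        intro x hx
        rw [kC_d] at hx
        obtain ⟨v, hv⟩ := h i x hx
        exact ⟨v, by rw [kC_d]; exact hv⟩ }

theorem nonempty_tor_hom1 (M : Type u) [AddCommGroup M] [Module A M] (l : List A) (h : CI2.Ex A A l) (n : ℕ) :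
    Nonempty (((Tor (ModuleCat.{u} A) (n + 1)).obj (ModuleCat.of A M)).obj (ModuleCat.of A (A ⧸ Ideal.ofList l)) ≃ₗ[A]
      Hom1 A M l n) := by
  let P := kres l h
  let F := (tensoringLeft (ModuleCat.{u} A)).obj (ModuleCat.of A M)
  let C := (F.mapHomologicalComplex (ComplexShape.down ℕ)).obj P.complex
  have hd : ∀ k, (C.d (k + 1) k).hom = (kd A A l k).lTensor M := fun k => by
    show (F.map ((kC A l).d (k + 1) k)).hom = _
    rw [kC_d]
    rfl
  let S := C.sc' (n + 1 + 1) (n + 1) n
  let e₁ : ((Tor (ModuleCat.{u} A) (n + 1)).obj (ModuleCat.of A M)).obj (ModuleCat.of A (A ⧸ Ideal.ofList l)) ≅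
      S.moduleCatLeftHomologyData.H :=
    P.isoLeftDerivedObj F (n + 1) ≪≫
      C.homologyIsoSc' (n + 1 + 1) (n + 1) n (ChainComplex.prev ℕ (n + 1)) (ChainComplex.next_nat_succ n) ≪≫
      S.moduleCatHomologyIso
  let t := tk A M l (n + 1)
  let q : LinearMap.ker S.g.hom →ₗ[A] LinearMap.ker (kd A M l n) :=
    (t.toLinearMap.comp (LinearMap.ker S.g.hom).subtype).codRestrict _ fun x => by
      have hx : (kd A A l n).lTensor M x.1 = 0 := by
        rw [← hd]; exact x.2
      show kd A M l n (tk A M l (n + 1) x.1) = 0
      rw [← tk_kd, hx, map_zero]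
  let G : LinearMap.ker S.g.hom →ₗ[A] Hom1 A M l n := Submodule.mkQ _ ∘ₗ q
  have hG : Function.Surjective G := by
    intro y
    obtain ⟨⟨y, hy⟩, rfl⟩ := Submodule.mkQ_surjective _ y
    refine ⟨⟨t.symm y, ?_⟩, congrArg (Submodule.mkQ _) (Subtype.ext (t.apply_symm_apply y))⟩
    show (C.d (n + 1) n).hom (t.symm y) = 0
    rw [hd]
    refine (tk A M l n).injective (((tk_kd A M l n (t.symm y)).trans ?_).trans (map_zero (tk A M l n)).symm)
    show kd A M l n (t (t.symm y)) = 0
    rw [t.apply_symm_apply]
    exact hy
  have hker : LinearMap.ker G = LinearMap.range S.moduleCatToCycles := by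
    ext ⟨x, hx⟩
    refine (Submodule.Quotient.mk_eq_zero _).trans ⟨?_, ?_⟩
    · rintro ⟨y, hy⟩
      have hy' : kd A M l (n + 1) y = tk A M l (n + 1) x := hy
      refine ⟨(tk A M l (n + 2)).symm y, Subtype.ext ?_⟩
      show (C.d (n + 1 + 1) (n + 1)).hom ((tk A M l (n + 2)).symm y) = x
      rw [hd]
      refine (tk A M l (n + 1)).injective ((tk_kd A M l (n + 1) _).trans ?_)
      rw [LinearEquiv.apply_symm_apply]
      exact hy'
    · rintro ⟨v, hv⟩
      refine ⟨tk A M l (n + 2) v, ?_⟩
      have hv' : (C.d (n + 1 + 1) (n + 1)).hom v = x := congrArg Subtype.val hv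
      rw [hd] at hv'
      show kd A M l (n + 1) (tk A M l (n + 1 + 1) v) = tk A M l (n + 1) x
      exact (tk_kd A M l (n + 1) v).symm.trans (congrArg _ hv')
  exact ⟨e₁.toLinearEquiv.trans ((Submodule.quotEquivOfEq _ _ hker.symm).trans (G.quotKerEquivOfSurjective hG))⟩

/-- Exterior powers over `A` of a free module over a quotient of `A`. -/
theorem nonempty_exteriorPower_quot (K : Ideal A) (r n : ℕ) :
    Nonempty ((⋀[A]^(n + 1) (Fin r → A ⧸ K)) ≃ₗ[A] (Fin (r.choose (n + 1)) → A ⧸ K)) := by
  classical
  let B := A ⧸ K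
  let N := Fin r → B
  have ht : Module.IsTorsionBySet A (⋀[A]^(n + 1) N) K := fun x a => by
    have hx : x ∈ Submodule.span A (Set.range (exteriorPower.ιMulti A (n + 1) (M := N))) := by
      rw [exteriorPower.ιMulti_span]; trivial
    induction hx using Submodule.span_induction with
    | mem y hy =>
      obtain ⟨v, rfl⟩ := hy
      have h1 := (exteriorPower.ιMulti A (n + 1) (M := N)).map_update_smul v 0 (a : A) (v 0)
      rw [Function.update_eq_self] at h1
      rw [← h1]
      refine (exteriorPower.ιMulti A (n + 1) (M := N)).map_coord_zero 0 ?_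
      rw [Function.update_self]
      funext i
      show (a : A) • v 0 i = 0
      rw [Algebra.smul_def, show algebraMap A B a = 0 from Ideal.Quotient.eq_zero_iff_mem.2 a.2, zero_mul]
    | zero => exact smul_zero _
    | add y z _ _ hy hz => rw [smul_add, hy, hz, add_zero]
    | smul c y _ hy => rw [smul_comm, hy, smul_zero]
  letI : Module B (⋀[A]^(n + 1) N) := ht.module
  haveI : IsScalarTower A B (⋀[A]^(n + 1) N) := ht.isScalarTower
  let toB : ⋀[A]^(n + 1) N →ₗ[A] ⋀[B]^(n + 1) N := exteriorPower.alternatingMapLinearEquiv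
    { toMultilinearMap := (exteriorPower.ιMulti B (n + 1) (M := N)).toMultilinearMap.restrictScalars A
      map_eq_zero_of_eq' := (exteriorPower.ιMulti B (n + 1) (M := N)).map_eq_zero_of_eq' }
  let g : N [⋀^Fin (n + 1)]→ₗ[B] ⋀[A]^(n + 1) N :=
    { toFun := exteriorPower.ιMulti A (n + 1) (M := N)
      map_update_add' := fun {_} m i x y => by
        convert (exteriorPower.ιMulti A (n + 1) (M := N)).map_update_add m i x y
      map_update_smul' := fun {_} m i c x => by
        obtain ⟨c, rfl⟩ := Ideal.Quotient.mk_surjective c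
        show exteriorPower.ιMulti A (n + 1) (Function.update m i ((algebraMap A B c) • x)) =
          (algebraMap A B c) • exteriorPower.ιMulti A (n + 1) (Function.update m i x)
        rw [algebraMap_smul, algebraMap_smul]
        convert (exteriorPower.ιMulti A (n + 1) (M := N)).map_update_smul m i c x
      map_eq_zero_of_eq' := (exteriorPower.ιMulti A (n + 1) (M := N)).map_eq_zero_of_eq' }
  let fromB : ⋀[B]^(n + 1) N →ₗ[B] ⋀[A]^(n + 1) N := exteriorPower.alternatingMapLinearEquiv g
  have e1 : (fromB.restrictScalars A) ∘ₗ toB = LinearMap.id := by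
    refine exteriorPower.linearMap_ext (AlternatingMap.ext fun v => ?_)
    simp only [toB, LinearMap.compAlternatingMap_apply, LinearMap.comp_apply, LinearMap.id_apply,
      LinearMap.coe_restrictScalars]
    rw [exteriorPower.alternatingMapLinearEquiv_apply_ιMulti]
    exact exteriorPower.alternatingMapLinearEquiv_apply_ιMulti g v
  have e2 : toB ∘ₗ (fromB.restrictScalars A) = LinearMap.id := by
    refine LinearMap.ext fun x => ?_
    have hx : x ∈ Submodule.span B (Set.range (exteriorPower.ιMulti B (n + 1) (M := N))) := by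
      rw [exteriorPower.ιMulti_span]; trivial
    induction hx using Submodule.span_induction with
    | mem y hy =>
      obtain ⟨v, rfl⟩ := hy
      show toB (fromB (exteriorPower.ιMulti B (n + 1) v)) = exteriorPower.ιMulti B (n + 1) v
      rw [show fromB (exteriorPower.ιMulti B (n + 1) v) = exteriorPower.ιMulti A (n + 1) v from
        exteriorPower.alternatingMapLinearEquiv_apply_ιMulti g v]
      exact exteriorPower.alternatingMapLinearEquiv_apply_ιMulti _ v
    | zero => exact map_zero _
    | add y z _ _ hy hz => rw [map_add, hy, hz, map_add]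
    | smul c y _ hy =>
      obtain ⟨c, rfl⟩ := Ideal.Quotient.mk_surjective c
      rw [show (Ideal.Quotient.mk K c : B) • y = c • y from algebraMap_smul B c y, map_smul, hy, map_smul]
  let e : (⋀[A]^(n + 1) N) ≃ₗ[A] ⋀[B]^(n + 1) N := LinearEquiv.ofLinearMap toB (fromB.restrictScalars A) e2 e1
  let b := (Pi.basisFun B (Fin r)).exteriorPower (n + 1)
  have hcard : Fintype.card (Set.powersetCard (Fin r) (n + 1)) = r.choose (n + 1) := by
    rw [← Nat.card_eq_fintype_card, Set.powersetCard.card, Nat.card_eq_fintype_card, Fintype.card_fin]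
  exact ⟨e.trans ((b.equivFun.restrictScalars A).trans
    (LinearEquiv.funCongrLeft A B (Fintype.equivFinOfCardEq hcard).symm))⟩

end Groth.Agent.KoszulTor28
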